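import Groth.Agent.Lib.GorTor.Kill

/-!
# Annihilators of `Tor (-, N)` along short exact sequences
-/

set_option autoImplicit false
universe u

open CategoryTheory GrothLib.FlatFP GrothLib.GorTor

namespace GrothLib.TorKill

variable {A : Type u} [CommRing A]

/-- `r` kills `Tor_i(M, -)` for `d < i`. -/
def Killed (r : A) (M : ModuleCat.{u} A) (d : ℕ) : Prop :=
  ∀ (N : ModuleCat.{u} A) (i : ℕ), d < i → ∀ y : T M N i, r • y = 0

/-- `r` kills `Tor_i(M, -)` for all `i`. -/
def KilledAll (r : A) (M : ModuleCat.{u} A) : Prop :=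
  ∀ (N : ModuleCat.{u} A) (i : ℕ) (y : T M N i), r • y = 0

theorem Killed.mul {r : A} {M : ModuleCat.{u} A} {d : ℕ} (h : Killed r M d) (s : A) : Killed (s * r) M d :=
  fun N i hi y => by rw [mul_smul, h N i hi y, smul_zero]

theorem killedAll_of_annihilates {r : A} {M : ModuleCat.{u} A} (h : ∀ x : M, r • x = 0) : KilledAll r M :=
  fun N i y => by
  have h0 : torCxMap (0 : M ⟶ M) N = 0 := by
    apply HomologicalComplex.hom_ext
    intro j
    apply ModuleCat.hom_ext
    refine TensorProduct.ext' fun x z => ?_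
    exact TensorProduct.zero_tmul _ z
  have h1 := GrothLib.FlatCx.homologyMap_eq_smul
    ((HomologicalComplex.shortComplexFunctor _ (ComplexShape.down ℕ) i).map (torCxMap (0 : M ⟶ M) N)) r
    (fun z => ?_) y
  · refine h1.symm.trans ?_
    have h2 : HomologicalComplex.homologyMap (torCxMap (0 : M ⟶ M) N) i = 0 := by
      rw [h0, HomologicalComplex.homologyMap_zero]
    exact ConcreteCategory.congr_hom h2 y
  · let Q : ModuleCat.{u} A := (projectiveResolution N).complex.X i
    have key : ∀ w : TensorProduct A M Q, LinearMap.rTensor Q (0 : M →ₗ[A] M) w = r • w := fun w => by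
      rw [LinearMap.rTensor_zero, LinearMap.zero_apply]
      induction w using TensorProduct.induction_on with
      | zero => rw [smul_zero]
      | tmul a b => rw [TensorProduct.smul_tmul', h, TensorProduct.zero_tmul]
      | add a b ha hb => rw [smul_add, ← ha, ← hb, add_zero]
    exact key z

theorem killed_of_flat (M : ModuleCat.{u} A) [Module.Flat A M] (r : A) : Killed r M 0 := fun N i hi y => by
  obtain ⟨j, rfl⟩ : ∃ j, i = j + 1 := ⟨i - 1, by omega⟩
  exact (ModuleCat.subsingleton_of_isZero (isZero_torCx_homology_of_flat M N j)).elim _ _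

theorem Killed.map_iso {r : A} {M M' : ModuleCat.{u} A} {d : ℕ} (h : Killed r M d) (e : M ≅ M') :
    Killed r M' d := fun N i hi y => by
  refine (congrEquiv (N := N) e i).symm.injective ?_
  rw [map_smul, map_zero, h N i hi]

section seq

variable {S : ShortComplex (ModuleCat.{u} A)} (hS : S.ShortExact) {r s : A} {d : ℕ}

include hS in
theorem killed_mid (h₁ : Killed r S.X₁ d) (h₃ : Killed s S.X₃ d) : Killed (r * s) S.X₂ d := fun N i hi y => by
  have hT := torSeq_shortExact S hS N
  let f : T S.X₁ N i →ₗ[A] T S.X₂ N i := (HomologicalComplex.homologyMap (torCxMap S.f N) i).hom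
  let g : T S.X₂ N i →ₗ[A] T S.X₃ N i := (HomologicalComplex.homologyMap (torCxMap S.g N) i).hom
  have h₂ : Function.Exact f g :=
    (ShortComplex.ShortExact.moduleCat_exact_iff_function_exact _).1 (hT.homology_exact₂ i)
  obtain ⟨z, hz⟩ := (h₂ (s • y)).1 (by rw [map_smul, h₃ N i hi])
  rw [mul_smul, ← hz, ← map_smul, h₁ N i hi, map_zero]

include hS in
theorem killed_right (h₁ : Killed s S.X₁ d) (h₂ : Killed r S.X₂ (d + 1)) : Killed (r * s) S.X₃ (d + 1) :=
  fun N i hi y => by
  obtain ⟨j, rfl⟩ : ∃ j, i = j + 1 := ⟨i - 1, by omega⟩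
  have hT := torSeq_shortExact S hS N
  let δ : T S.X₃ N (j + 1) →ₗ[A] T S.X₁ N j := (hT.δ (j + 1) j (by simp)).hom
  let g : T S.X₂ N (j + 1) →ₗ[A] T S.X₃ N (j + 1) :=
    (HomologicalComplex.homologyMap (torCxMap S.g N) (j + 1)).hom
  have h₃ : Function.Exact g δ :=
    (ShortComplex.ShortExact.moduleCat_exact_iff_function_exact _).1 (hT.homology_exact₃ (j + 1) j (by simp))
  obtain ⟨z, hz⟩ := (h₃ (s • y)).1 (by rw [map_smul, h₁ N j (by omega)])
  rw [mul_smul, ← hz, ← map_smul, h₂ N _ hi, map_zero]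

include hS in
theorem killed_right_of_all (h₁ : KilledAll s S.X₁) (h₂ : Killed r S.X₂ d) : Killed (r * s) S.X₃ d := by
  intro N i hi y
  obtain ⟨j, rfl⟩ : ∃ j, i = j + 1 := ⟨i - 1, by omega⟩
  have hT := torSeq_shortExact S hS N
  let δ : T S.X₃ N (j + 1) →ₗ[A] T S.X₁ N j := (hT.δ (j + 1) j (by simp)).hom
  let g : T S.X₂ N (j + 1) →ₗ[A] T S.X₃ N (j + 1) :=
    (HomologicalComplex.homologyMap (torCxMap S.g N) (j + 1)).hom
  have h₃ : Function.Exact g δ :=
    (ShortComplex.ShortExact.moduleCat_exact_iff_function_exact _).1 (hT.homology_exact₃ (j + 1) j (by simp))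
  obtain ⟨z, hz⟩ := (h₃ (s • y)).1 (by rw [map_smul, h₁ N j])
  rw [mul_smul, ← hz, ← map_smul, h₂ N _ hi, map_zero]

end seq

variable {P : Type u} [CommRing P] [Algebra A P] {r c : A}

/-- Enlarging an ideal by a module killed by `c`. -/
theorem killed_quotient_mono {I J : Ideal P} (hIJ : I ≤ J) (hc : ∀ p ∈ J, algebraMap A P c * p ∈ I) {d : ℕ}
    (h : Killed r (ModuleCat.of A (P ⧸ I)) d) : Killed (r * c) (ModuleCat.of A (P ⧸ J)) d := by
  let q : (P ⧸ I) →ₗ[A] (P ⧸ J) := (Submodule.factor hIJ).restrictScalars A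
  let S : ShortComplex (ModuleCat.{u} A) := ShortComplex.mk
    (ModuleCat.ofHom (LinearMap.ker q).subtype) (ModuleCat.ofHom q) (ModuleCat.hom_ext (LinearMap.ext fun x => x.2))
  have hS : S.ShortExact :=
    { exact := (ShortComplex.moduleCat_exact_iff _).2 fun x hx => ⟨⟨x, hx⟩, rfl⟩
      mono_f := (ModuleCat.mono_iff_injective _).2 Subtype.val_injective
      epi_g := (ModuleCat.epi_iff_surjective _).2 (Submodule.factor_surjective hIJ) }
  refine killed_right_of_all hS (killedAll_of_annihilates ?_) h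
  rintro ⟨x, hx⟩
  obtain ⟨p, rfl⟩ := Submodule.Quotient.mk_surjective _ x
  refine Subtype.ext ?_
  show c • (Submodule.Quotient.mk p : P ⧸ I) = 0
  rw [← Submodule.Quotient.mk_smul, Submodule.Quotient.mk_eq_zero, Algebra.smul_def]
  exact hc p ((Submodule.Quotient.mk_eq_zero J).1 hx)

/-- Adding an element which is regular modulo `I` up to `c`. -/
theorem killed_quotient_add {I : Ideal P} {y : P} (hc : ∀ p, y * p ∈ I → algebraMap A P c * p ∈ I) {d : ℕ}
    (h : Killed r (ModuleCat.of A (P ⧸ I)) d) :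
    Killed (r * (r * c)) (ModuleCat.of A (P ⧸ (I ⊔ Ideal.span {y}))) (d + 1) := by
  let C : Ideal P := Submodule.comap (LinearMap.mulLeft P y) I
  have hIC : I ≤ C := fun p hp => Ideal.mul_mem_left I y hp
  have h1 : Killed (r * c) (ModuleCat.of A (P ⧸ C)) d := killed_quotient_mono hIC hc h
  let m : (P ⧸ C) →ₗ[A] (P ⧸ I) :=
    (Submodule.mapQ C I (LinearMap.mulLeft P y) le_rfl).restrictScalars A
  let q : (P ⧸ I) →ₗ[A] (P ⧸ (I ⊔ Ideal.span {y})) := (Submodule.factor le_sup_left).restrictScalars A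
  let S : ShortComplex (ModuleCat.{u} A) := ShortComplex.mk (ModuleCat.ofHom m) (ModuleCat.ofHom q)
    (ModuleCat.hom_ext (LinearMap.ext fun x => by
      obtain ⟨p, rfl⟩ := Submodule.Quotient.mk_surjective _ x
      exact (Submodule.Quotient.mk_eq_zero _).2
        (Ideal.mem_sup_right (Ideal.mul_mem_right p _ (Ideal.mem_span_singleton_self y)))))
  have hS : S.ShortExact :=
    { exact := (ShortComplex.moduleCat_exact_iff _).2 fun x hx => by
        obtain ⟨p, rfl⟩ := Submodule.Quotient.mk_surjective _ x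
        obtain ⟨a, ha, b, hb, rfl⟩ := Submodule.mem_sup.1 ((Submodule.Quotient.mk_eq_zero _).1 hx)
        obtain ⟨e, rfl⟩ := Ideal.mem_span_singleton'.1 hb
        refine ⟨Submodule.Quotient.mk e, (Submodule.Quotient.eq _).2 ?_⟩
        show y * e - (a + e * y) ∈ I
        rw [mul_comm y e, sub_add_cancel_right]
        exact neg_mem ha
      mono_f := (ModuleCat.mono_iff_injective _).2 (by
        show Function.Injective (Submodule.mapQ C I (LinearMap.mulLeft P y) le_rfl)
        rw [← LinearMap.ker_eq_bot, Submodule.mapQ, Submodule.ker_liftQ_eq_bot]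
        rw [LinearMap.ker_comp, Submodule.ker_mkQ])
      epi_g := (ModuleCat.epi_iff_surjective _).2 (Submodule.factor_surjective (le_sup_left (b := Ideal.span {y}))) }
  exact killed_right hS h1 (fun N i hi z => h N i (by omega) z)

end GrothLib.TorKill
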