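import Groth.Agent.Lib.TorKill.Basic
import Groth.Prelude.Def_BlowUp2
import Groth.Prelude.Def_DRing2
import Mathlib.RingTheory.MvPolynomial.Ideal
import Mathlib.RingTheory.MvPolynomial.Localization
import Mathlib.RingTheory.Polynomial.Basic
import Mathlib.RingTheory.Localization.Ideal

/-!
# `Tor` of an affine blow-up algebra is killed by a power of the ideal above the number of generators
-/

set_option autoImplicit false
universe u

open CategoryTheory MvPolynomial GrothLib.FlatFP GrothLib.GorTor

attribute [local instance] MvPolynomial.algebraMvPolynomial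

namespace GrothLib.TorKill

variable {A : Type u} [CommRing A] {t : ℕ} (f : A) (a : Fin t → A)

local notation "Af" => Localization.Away f
local notation "P" => MvPolynomial (Fin t) A
local notation "Q" => MvPolynomial (Fin t) (Localization.Away f)

/-- `a_i / f`. -/
noncomputable def frac (i : Fin t) : Af := IsLocalization.mk' Af (a i) ⟨f, Submonoid.mem_powers f⟩

/-- `f x_i - a_i`. -/
noncomputable def rel (i : Fin t) : P := C f * X i - C (a i)

/-- Evaluation at the fractions. -/
noncomputable def evalFrac : P →ₐ[A] Af := aeval (frac f a)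

/-- The translation by the fractions. -/
noncomputable def shift : Q ≃ₐ[Af] Q :=
  AlgEquiv.ofAlgHom (aeval fun i => X i - C (frac f a i)) (aeval fun i => X i + C (frac f a i))
    (MvPolynomial.algHom_ext fun i => by simp) (MvPolynomial.algHom_ext fun i => by simp)

theorem map_rel (i : Fin t) :
    algebraMap P Q (rel f a i) = C (algebraMap A Af f) * shift f a (X i) := by
  have h1 : algebraMap A Af f * frac f a i = algebraMap A Af (a i) :=
    IsLocalization.mk'_spec' Af (a i) ⟨f, Submonoid.mem_powers f⟩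
  rw [algebraMap_def, rel, map_sub, map_mul, map_C, map_X, map_C, ← h1, C_mul,
    show shift f a (X i) = X i - C (frac f a i) by simp [shift]]
  ring

theorem isUnit_C_f : IsUnit (C (algebraMap A Af f) : Q) :=
  (IsLocalization.Away.algebraMap_isUnit f).map C

theorem map_span_rel (s : Set (Fin t)) :
    (Ideal.span (rel f a '' s)).map (algebraMap P Q) = (Ideal.span (X '' s)).map (shift f a).toAlgHom := by
  rw [Ideal.map_span, Ideal.map_span, ← Set.image_comp, ← Set.image_comp]
  refine le_antisymm (Ideal.span_le.2 ?_) (Ideal.span_le.2 ?_)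
  · rintro _ ⟨i, hi, rfl⟩
    show algebraMap P Q (rel f a i) ∈ _
    rw [map_rel]
    exact Ideal.mul_mem_left _ _ (Ideal.subset_span ⟨i, hi, rfl⟩)
  · rintro _ ⟨i, hi, rfl⟩
    refine (Ideal.unit_mul_mem_iff_mem _ (isUnit_C_f f)).1 ?_
    show C (algebraMap A Af f) * shift f a (X i) ∈ _
    rw [← map_rel]
    exact Ideal.subset_span ⟨i, hi, rfl⟩

theorem mem_map_shift_iff (I : Ideal Q) (z : Q) :
    shift f a z ∈ I.map (shift f a).toAlgHom ↔ z ∈ I := by
  refine ⟨fun h => ?_, fun h => Ideal.mem_map_of_mem _ h⟩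
  obtain ⟨w, hw, e⟩ := (Ideal.mem_map_iff_of_surjective (shift f a).toAlgHom (shift f a).surjective).1 h
  rwa [← (shift f a).injective e]

theorem X_mul_mem_span {R : Type u} [CommRing R] {s : Set (Fin t)} {j : Fin t} (hj : j ∉ s)
    {z : MvPolynomial (Fin t) R} (h : X j * z ∈ Ideal.span (X '' s : Set (MvPolynomial (Fin t) R))) :
    z ∈ Ideal.span (X '' s : Set (MvPolynomial (Fin t) R)) := by
  rw [mem_ideal_span_X_image] at h ⊢
  intro m hm
  obtain ⟨i, hi, hne⟩ := h (Finsupp.single j 1 + m) (by
    rw [support_X_mul]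
    exact Finset.mem_map.2 ⟨m, hm, rfl⟩)
  refine ⟨i, hi, fun h0 => hne ?_⟩
  rw [Finsupp.add_apply, Finsupp.single_eq_of_ne (fun e : i = j => hj (e ▸ hi)), h0, add_zero]

theorem exists_pow_mem {I : Ideal P} {p : P} (h : algebraMap P Q p ∈ I.map (algebraMap P Q)) :
    ∃ N : ℕ, algebraMap A P (f ^ N) * p ∈ I := by
  obtain ⟨m, hm, hmem⟩ :=
    (IsLocalization.algebraMap_mem_map_algebraMap_iff ((Submonoid.powers f).map (C : A →+* P)) Q I p).1 h
  obtain ⟨_, ⟨N, rfl⟩, rfl⟩ := hm
  exact ⟨N, hmem⟩

theorem exists_pow_uniform [IsNoetherianRing A] (K I : Ideal P)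
    (h : ∀ p ∈ K, ∃ N : ℕ, algebraMap A P (f ^ N) * p ∈ I) :
    ∃ N : ℕ, ∀ p ∈ K, algebraMap A P (f ^ N) * p ∈ I := by
  classical
  obtain ⟨S, hS⟩ := IsNoetherian.noetherian K
  choose! N hN using h
  refine ⟨S.sum N, fun p hp => ?_⟩
  rw [← hS] at hp
  induction hp using Submodule.span_induction with
  | mem x hx =>
    rw [← Finset.add_sum_erase S N hx, pow_add, map_mul, mul_assoc, mul_left_comm]
    exact Ideal.mul_mem_left _ _ (hN x (hS ▸ Submodule.subset_span hx))
  | zero => rw [mul_zero]; exact zero_mem _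
  | add x y _ _ hx hy => rw [mul_add]; exact add_mem hx hy
  | smul r x _ hx => rw [smul_eq_mul, mul_left_comm]; exact Ideal.mul_mem_left _ _ hx

theorem exists_killed_span [IsNoetherianRing A] (s : Finset (Fin t)) :
    ∃ N : ℕ, Killed (f ^ N) (ModuleCat.of A (P ⧸ Ideal.span (rel f a '' (s : Set (Fin t))))) s.card := by
  classical
  induction s using Finset.induction_on with
  | empty =>
    haveI : Module.Flat A (ModuleCat.of A (P ⧸ Ideal.span (rel f a '' ((∅ : Finset (Fin t)) : Set (Fin t))))) :=
      Module.Flat.of_linearEquiv ((Submodule.quotEquivOfEqBot _ (by simp)).restrictScalars A)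
    exact ⟨0, killed_of_flat _ _⟩
  | insert j s hj ih =>
    obtain ⟨N, hN⟩ := ih
    let I : Ideal P := Ideal.span (rel f a '' (s : Set (Fin t)))
    obtain ⟨c, hc⟩ := exists_pow_uniform f (Submodule.comap (LinearMap.mulLeft P (rel f a j)) I) I fun p hp => by
      refine exists_pow_mem f ?_
      have h1 : algebraMap P Q (rel f a j * p) ∈ I.map (algebraMap P Q) := Ideal.mem_map_of_mem _ hp
      rw [map_mul, map_rel, mul_assoc, Ideal.unit_mul_mem_iff_mem _ (isUnit_C_f f), map_span_rel] at h1
      obtain ⟨z, hz⟩ := (shift f a).surjective (algebraMap P Q p)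
      rw [← hz, ← map_mul, mem_map_shift_iff] at h1
      rw [map_span_rel, ← hz, mem_map_shift_iff]
      exact X_mul_mem_span (by simpa using hj) h1
    refine ⟨N + (N + c), ?_⟩
    have h2 := killed_quotient_add (A := A) (I := I) (y := rel f a j) (c := f ^ c) (fun p hp => hc p hp) hN
    rw [Finset.card_insert_of_notMem hj, pow_add, pow_add]
    have heq : I ⊔ Ideal.span {rel f a j} = Ideal.span (rel f a '' ((insert j s : Finset (Fin t)) : Set (Fin t))) := by
      rw [Finset.coe_insert, Set.image_insert_eq, Ideal.span_insert, sup_comm]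
    rwa [heq] at h2

theorem exists_killed_ker [IsNoetherianRing A] :
    ∃ N : ℕ, Killed (f ^ N) (ModuleCat.of A (P ⧸ RingHom.ker (evalFrac f a).toRingHom)) t := by
  obtain ⟨N, hN⟩ := exists_killed_span f a Finset.univ
  rw [Finset.card_univ, Fintype.card_fin] at hN
  let J : Ideal P := Ideal.span (rel f a '' ((Finset.univ : Finset (Fin t)) : Set (Fin t)))
  let K : Ideal P := RingHom.ker (evalFrac f a).toRingHom
  have hJK : J ≤ K := by
    refine Ideal.span_le.2 ?_
    rintro _ ⟨i, -, rfl⟩
    show evalFrac f a (rel f a i) = 0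
    rw [evalFrac, rel, map_sub, map_mul, aeval_C, aeval_X, aeval_C]
    exact sub_eq_zero.2 (IsLocalization.mk'_spec' Af (a i) ⟨f, Submonoid.mem_powers f⟩)
  obtain ⟨c, hc⟩ := exists_pow_uniform f K J fun p hp => by
    refine exists_pow_mem f ?_
    rw [map_span_rel]
    obtain ⟨z, hz⟩ := (shift f a).surjective (algebraMap P Q p)
    rw [← hz, mem_map_shift_iff, mem_ideal_span_X_image]
    have h0 : eval (frac f a) (algebraMap P Q p) = 0 := by
      rw [algebraMap_def, MvPolynomial.eval_map]
      exact hp
    have h1 : constantCoeff z = 0 := by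
      rw [← h0, ← hz]
      have e : ((aeval (R := Af) (frac f a)).comp (shift f a).toAlgHom) = aeval (fun _ => (0 : Af)) :=
        MvPolynomial.algHom_ext fun i => by simp [shift]
      have e' : aeval (R := Af) (frac f a) (shift f a z) = aeval (fun _ : Fin t => (0 : Af)) z :=
        AlgHom.congr_fun e z
      rw [← aeval_eq_eval]
      exact ((aeval_zero' z).trans (by simp)).symm.trans e'.symm
    intro m hm
    by_contra hne
    push Not at hne
    refine (mem_support_iff.1 hm) ?_
    rw [show m = 0 from Finsupp.ext fun i => hne i (by simp), ← constantCoeff_eq, h1]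
  refine ⟨N + c, ?_⟩
  rw [pow_add]
  exact killed_quotient_mono hJK hc hN

theorem range_evalFrac (a' : Fin (t + 1) → A) (h0 : a' 0 = f) (hs : ∀ i : Fin t, a' i.succ = a i) :
    (evalFrac f a).range = BlowUp.affineAlgebra A (Ideal.span (Set.range a')) f := by
  rw [evalFrac, ← Algebra.adjoin_range_eq_range_aeval]
  refine le_antisymm (Algebra.adjoin_mono ?_) (Algebra.adjoin_le ?_)
  · rintro _ ⟨i, rfl⟩
    exact ⟨a i, Ideal.subset_span ⟨i.succ, hs i⟩, rfl⟩
  · rintro _ ⟨x, hx, rfl⟩
    obtain ⟨v, rfl⟩ := Ideal.mem_span_range_iff_exists_fun.1 hx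
    rw [IsLocalization.mk'_eq_mul_mk'_one, map_sum, Finset.sum_mul]
    refine Subalgebra.sum_mem _ fun i _ => ?_
    rw [map_mul, mul_assoc, ← IsLocalization.mk'_eq_mul_mk'_one]
    refine Subalgebra.mul_mem _ (Subalgebra.algebraMap_mem _ _) ?_
    induction i using Fin.cases with
    | zero =>
      rw [h0, show IsLocalization.mk' Af f (⟨f, Submonoid.mem_powers f⟩ : Submonoid.powers f) = 1 from
        IsLocalization.mk'_self' Af]
      exact Subalgebra.one_mem _
    | succ i =>
      rw [hs]
      exact Algebra.subset_adjoin ⟨i, rfl⟩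

/-- The blow-up algebra: a power of `I` kills `Tor` above `t`. -/
theorem exists_pow_killed_affineAlgebra [IsNoetherianRing A] (a' : Fin (t + 1) → A) :
    ∃ c : ℕ, ∀ x ∈ Ideal.span (Set.range a') ^ c,
      Killed x (ModuleCat.of A (BlowUp.affineAlgebra A (Ideal.span (Set.range a')) (a' 0))) t := by
  obtain ⟨N, hN⟩ := exists_killed_ker (a' 0) (fun i => a' i.succ)
  let I : Ideal A := Ideal.span (Set.range a')
  let B := BlowUp.affineAlgebra A I (a' 0)
  let ev := evalFrac (a' 0) (fun i => a' i.succ)
  let e : (MvPolynomial (Fin t) A ⧸ RingHom.ker ev.toRingHom) ≃ₗ[A] B :=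
    ((Ideal.quotientKerEquivRange ev).trans
      (Subalgebra.equivOfEq _ _ (range_evalFrac (a' 0) (fun i => a' i.succ) a' rfl (fun _ => rfl)))).toLinearEquiv
  have hB : Killed (a' 0 ^ N) (ModuleCat.of A B) t := hN.map_iso e.toModuleIso
  refine ⟨N, fun x hx M i hi y => ?_⟩
  have hdiv : ∀ z ∈ I ^ N, ∃ b : B, algebraMap A B z = algebraMap A B (a' 0 ^ N) * b := by
    clear hB hi y hx hN
    induction N with
    | zero => exact fun z _ => ⟨algebraMap A B z, by rw [pow_zero, map_one, one_mul]⟩
    | succ n ih =>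
      intro z hz
      rw [pow_succ] at hz
      induction hz using Submodule.mul_induction_on' with
      | mem_mul_mem u hu v hv =>
        obtain ⟨b, hb⟩ := ih u hu
        have hv' : IsLocalization.mk' (Localization.Away (a' 0)) v
            (⟨a' 0, Submonoid.mem_powers (a' 0)⟩ : Submonoid.powers (a' 0)) ∈ B :=
          Algebra.subset_adjoin ⟨v, hv, rfl⟩
        refine ⟨b * ⟨_, hv'⟩, ?_⟩
        have hv1 : algebraMap A B v = algebraMap A B (a' 0) * ⟨_, hv'⟩ :=
          Subtype.ext (IsLocalization.mk'_spec' (Localization.Away (a' 0)) v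
            (⟨a' 0, Submonoid.mem_powers (a' 0)⟩ : Submonoid.powers (a' 0))).symm
        rw [map_mul, hb, hv1, pow_succ, map_mul]
        ring
      | add u _ v _ hu hv =>
        obtain ⟨b, hb⟩ := hu
        obtain ⟨b', hb'⟩ := hv
        exact ⟨b + b', by rw [map_add, hb, hb', mul_add]⟩
  obtain ⟨b, hb⟩ := hdiv x hx
  let μ : ModuleCat.of A B ⟶ ModuleCat.of A B := ModuleCat.ofHom (LinearMap.mulRight A b)
  let G : T (ModuleCat.of A B) M i →ₗ[A] T (ModuleCat.of A B) M i :=
    (HomologicalComplex.homologyMap (torCxMap (a' 0 ^ N • μ) M) i).hom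
  have hxy : G y = x • y := by
    refine GrothLib.FlatCx.homologyMap_eq_smul
      ((HomologicalComplex.shortComplexFunctor _ (ComplexShape.down ℕ) i).map
        (torCxMap (a' 0 ^ N • μ) M)) x (fun z => ?_) y
    let R : ModuleCat.{u} A := (projectiveResolution M).complex.X i
    have key : ∀ w : TensorProduct A B R,
        LinearMap.rTensor R (a' 0 ^ N • LinearMap.mulRight A b : B →ₗ[A] B) w = x • w := fun w => by
      rw [show (a' 0 ^ N • LinearMap.mulRight A b : B →ₗ[A] B) = x • LinearMap.id from LinearMap.ext fun v => by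
        show a' 0 ^ N • (v * b) = x • v
        rw [Algebra.smul_def, Algebra.smul_def, hb]; ring, LinearMap.rTensor_smul, LinearMap.rTensor_id]
      rfl
    exact key z
  have hμ : G y = a' 0 ^ N • (HomologicalComplex.homologyMap (torCxMap μ M) i).hom y := by
    let σ : ModuleCat.of A B ⟶ ModuleCat.of A B := a' 0 ^ N • 𝟙 _
    have h1 : torCxMap (a' 0 ^ N • μ) M = torCxMap μ M ≫ torCxMap σ M := by
      apply HomologicalComplex.hom_ext
      intro j
      apply ModuleCat.hom_ext
      refine TensorProduct.ext' fun v w => ?_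
      rfl
    have h2 : ∀ w, (HomologicalComplex.homologyMap (torCxMap σ M) i).hom w = a' 0 ^ N • w := fun w => by
      refine GrothLib.FlatCx.homologyMap_eq_smul
        ((HomologicalComplex.shortComplexFunctor _ (ComplexShape.down ℕ) i).map (torCxMap σ M))
        (a' 0 ^ N) (fun z => ?_) w
      let R : ModuleCat.{u} A := (projectiveResolution M).complex.X i
      have key : ∀ w : TensorProduct A B R,
          LinearMap.rTensor R (a' 0 ^ N • LinearMap.id : B →ₗ[A] B) w = a' 0 ^ N • w := fun w => by
        rw [LinearMap.rTensor_smul, LinearMap.rTensor_id]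
        rfl
      exact key z
    show (HomologicalComplex.homologyMap (torCxMap (a' 0 ^ N • μ) M) i).hom y = _
    rw [h1, HomologicalComplex.homologyMap_comp]
    exact h2 _
  rw [← hxy, hμ]
  exact hB M i hi _

end GrothLib.TorKill
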