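import Groth.Agent.Lib.TorKill.Blowup
import Mathlib.RingTheory.ReesAlgebra

/-!
# A power of an ideal kills `Tor` of its powers above the number of generators
-/

set_option autoImplicit false
universe u

open CategoryTheory GrothLib.FlatFP GrothLib.GorTor

attribute [local instance] MvPolynomial.algebraMvPolynomial

namespace GrothLib.TorKill

variable {A : Type u} [CommRing A] {t : ℕ}

/-- Composition in the first variable. -/
theorem torCxMap_comp {X Y Z : ModuleCat.{u} A} (f : X ⟶ Y) (g : Y ⟶ Z) (N : ModuleCat.{u} A) :
    torCxMap (f ≫ g) N = torCxMap f N ≫ torCxMap g N := by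
  apply HomologicalComplex.hom_ext
  intro i
  apply ModuleCat.hom_ext
  refine TensorProduct.ext' fun x y => ?_
  rfl

theorem torCxMap_id (X N : ModuleCat.{u} A) : torCxMap (𝟙 X) N = 𝟙 _ := by
  apply HomologicalComplex.hom_ext
  intro i
  apply ModuleCat.hom_ext
  refine TensorProduct.ext' fun x y => ?_
  rfl

theorem Killed.retract {r : A} {M M' : ModuleCat.{u} A} {d : ℕ} (h : Killed r M d) (ι : M' ⟶ M) (π : M ⟶ M')
    (e : ι ≫ π = 𝟙 M') : Killed r M' d := fun N i hi y => by
  have h1 : HomologicalComplex.homologyMap (torCxMap ι N) i ≫ HomologicalComplex.homologyMap (torCxMap π N) i =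
      𝟙 _ := by
    rw [← HomologicalComplex.homologyMap_comp, ← torCxMap_comp, e, torCxMap_id, HomologicalComplex.homologyMap_id]
  calc r • y = r • (HomologicalComplex.homologyMap (torCxMap π N) i).hom
        ((HomologicalComplex.homologyMap (torCxMap ι N) i).hom y) :=
          congrArg (r • ·) (ConcreteCategory.congr_hom h1 y).symm
    _ = (HomologicalComplex.homologyMap (torCxMap π N) i).hom
        (r • (HomologicalComplex.homologyMap (torCxMap ι N) i).hom y) := (map_smul _ _ _).symm
    _ = 0 := by rw [h N i hi, map_zero]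

variable [IsNoetherianRing A] (f : A) (a : Fin t → A)

local notation "P" => MvPolynomial (Fin t) (Polynomial A)
local notation "fT" => (Polynomial.C f : Polynomial A)
local notation "aT" => (fun i => Polynomial.C (a i) * Polynomial.X : Fin t → Polynomial A)

omit [IsNoetherianRing A] in
theorem monomial_one_mem {I : Ideal A} {y : A} (hy : y ∈ I) : Polynomial.monomial 1 y ∈ reesAlgebra I := fun i => by
  rw [Polynomial.coeff_monomial]
  split_ifs with h
  · subst h; rwa [pow_one]
  · exact zero_mem _

omit [IsNoetherianRing A] in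
theorem algebraMap_eq_pow (N : ℕ) :
    algebraMap (Polynomial A) P (fT ^ N) = algebraMap A P (f ^ N) := by
  rw [IsScalarTower.algebraMap_apply A (Polynomial A) P, Polynomial.algebraMap_eq, map_pow Polynomial.C]

theorem exists_killed_span' (s : Finset (Fin t)) :
    ∃ N : ℕ, Killed (f ^ N) (ModuleCat.of A (P ⧸ Ideal.span (rel fT aT '' (s : Set (Fin t))))) s.card := by
  classical
  induction s using Finset.induction_on with
  | empty =>
    haveI : Module.Flat A (ModuleCat.of A (P ⧸ Ideal.span (rel fT aT '' ((∅ : Finset (Fin t)) : Set (Fin t))))) := by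
      haveI : Module.Free A P := Module.Free.trans (R := A) (S := Polynomial A) (M := P)
      exact Module.Flat.of_linearEquiv ((Submodule.quotEquivOfEqBot _ (by simp)).restrictScalars A)
    exact ⟨0, killed_of_flat _ _⟩
  | insert j s hj ih =>
    obtain ⟨N, hN⟩ := ih
    let I : Ideal P := Ideal.span (rel fT aT '' (s : Set (Fin t)))
    obtain ⟨c, hc⟩ := exists_pow_uniform fT (Submodule.comap (LinearMap.mulLeft P (rel fT aT j)) I) I fun p hp => by
      refine exists_pow_mem fT ?_
      have h1 : algebraMap P (MvPolynomial (Fin t) (Localization.Away fT)) (rel fT aT j * p) ∈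
          I.map (algebraMap P (MvPolynomial (Fin t) (Localization.Away fT))) := Ideal.mem_map_of_mem _ hp
      rw [map_mul, map_rel, mul_assoc, Ideal.unit_mul_mem_iff_mem _ (isUnit_C_f fT), map_span_rel] at h1
      obtain ⟨z, hz⟩ := (shift fT aT).surjective (algebraMap P (MvPolynomial (Fin t) (Localization.Away fT)) p)
      rw [← hz, ← map_mul, mem_map_shift_iff] at h1
      rw [map_span_rel, ← hz, mem_map_shift_iff]
      exact X_mul_mem_span (by simpa using hj) h1
    refine ⟨N + (N + c), ?_⟩
    have h2 := killed_quotient_add (A := A) (I := I) (y := rel fT aT j) (c := f ^ c)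
      (fun p hp => by rw [← algebraMap_eq_pow]; exact hc p hp) hN
    rw [Finset.card_insert_of_notMem hj, pow_add, pow_add]
    have heq : I ⊔ Ideal.span {rel fT aT j} =
        Ideal.span (rel fT aT '' ((insert j s : Finset (Fin t)) : Set (Fin t))) := by
      rw [Finset.coe_insert, Set.image_insert_eq, Ideal.span_insert, sup_comm]
    rwa [heq] at h2

/-- The map to the Rees algebra. -/
noncomputable def toRees : P →ₐ[A] Polynomial A where
  toRingHom := MvPolynomial.eval₂Hom
    (Polynomial.aeval (Polynomial.monomial 1 f)).toRingHom (fun i => Polynomial.monomial 1 (a i))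
  commutes' r := by
    show MvPolynomial.eval₂Hom _ _ (algebraMap A P r) = _
    rw [IsScalarTower.algebraMap_apply A (Polynomial A) P, MvPolynomial.algebraMap_eq]
    simp

omit [IsNoetherianRing A] in
theorem toRees_C (p : Polynomial A) : toRees f a (MvPolynomial.C p) = Polynomial.aeval (Polynomial.monomial 1 f) p :=
  MvPolynomial.eval₂Hom_C _ _ p

omit [IsNoetherianRing A] in
theorem toRees_X (i : Fin t) : toRees f a (MvPolynomial.X i) = Polynomial.monomial 1 (a i) :=
  MvPolynomial.eval₂Hom_X' _ _ i

theorem exists_killed_toRees :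
    ∃ N : ℕ, Killed (f ^ N) (ModuleCat.of A (P ⧸ RingHom.ker (toRees f a).toRingHom)) t := by
  obtain ⟨N, hN⟩ := exists_killed_span' f a Finset.univ
  rw [Finset.card_univ, Fintype.card_fin] at hN
  let J : Ideal P := Ideal.span (rel fT aT '' ((Finset.univ : Finset (Fin t)) : Set (Fin t)))
  let K : Ideal P := RingHom.ker (toRees f a).toRingHom
  have hJK : J ≤ K := by
    refine Ideal.span_le.2 ?_
    rintro _ ⟨i, -, rfl⟩
    show toRees f a (rel fT aT i) = 0
    rw [rel, map_sub, map_mul, toRees_C, toRees_X, toRees_C]
    simp only [map_mul, Polynomial.aeval_C, Polynomial.aeval_X, Polynomial.algebraMap_eq,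
      Polynomial.C_mul_monomial, mul_comm f (a i), sub_self]
  obtain ⟨c, hc⟩ := exists_pow_uniform fT K J fun p hp => by
    refine exists_pow_mem fT ?_
    let Af := Localization.Away fT
    let σ : Polynomial A →ₐ[A] Af :=
      Polynomial.aeval (IsLocalization.mk' Af (Polynomial.X : Polynomial A) ⟨fT, Submonoid.mem_powers fT⟩)
    have hσ : ∀ b : A, σ (Polynomial.monomial 1 b) =
        IsLocalization.mk' Af (Polynomial.C b * Polynomial.X) ⟨fT, Submonoid.mem_powers fT⟩ := fun b => by
      rw [← Polynomial.C_mul_X_eq_monomial, map_mul, Polynomial.aeval_C, Polynomial.aeval_X,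
        IsScalarTower.algebraMap_apply A (Polynomial A) Af, ← IsLocalization.mul_mk'_eq_mk'_of_mul]
      rfl
    have hev : (σ.comp (toRees f a)).toRingHom = (evalFrac fT aT).toRingHom := by
      refine MvPolynomial.ringHom_ext (fun q => ?_) (fun i => ?_)
      · show σ (toRees f a (MvPolynomial.C q)) = evalFrac fT aT (MvPolynomial.C q)
        rw [toRees_C, evalFrac, MvPolynomial.aeval_C, ← Polynomial.aeval_algHom_apply, hσ,
          show (Polynomial.C f * Polynomial.X : Polynomial A) = fT * Polynomial.X from rfl,
          show IsLocalization.mk' Af (fT * Polynomial.X) (⟨fT, Submonoid.mem_powers fT⟩ : Submonoid.powers fT) =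
            algebraMap (Polynomial A) Af Polynomial.X from IsLocalization.mk'_eq_iff_eq_mul.2 (by
              rw [← map_mul, mul_comm]),
          Polynomial.aeval_algebraMap_apply, Polynomial.aeval_X_left_apply]
      · show σ (toRees f a (MvPolynomial.X i)) = evalFrac fT aT (MvPolynomial.X i)
        rw [toRees_X, evalFrac, MvPolynomial.aeval_X, hσ]
        rfl
    have hp' : evalFrac fT aT p = 0 := (RingHom.congr_fun hev p).symm.trans
      ((congrArg σ (show toRees f a p = 0 from hp)).trans (map_zero σ))
    rw [map_span_rel]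
    obtain ⟨z, hz⟩ := (shift fT aT).surjective (algebraMap P (MvPolynomial (Fin t) Af) p)
    rw [← hz, mem_map_shift_iff, MvPolynomial.mem_ideal_span_X_image]
    have h0 : MvPolynomial.eval (frac fT aT) (algebraMap P (MvPolynomial (Fin t) Af) p) = 0 := by
      rw [MvPolynomial.algebraMap_def, MvPolynomial.eval_map]
      exact hp'
    have h1 : MvPolynomial.constantCoeff z = 0 := by
      rw [← h0, ← hz]
      have e : ((MvPolynomial.aeval (R := Af) (frac fT aT)).comp (shift fT aT).toAlgHom) =
          MvPolynomial.aeval (fun _ => (0 : Af)) :=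
        MvPolynomial.algHom_ext fun i => by simp [shift]
      have e' : MvPolynomial.aeval (R := Af) (frac fT aT) (shift fT aT z) =
          MvPolynomial.aeval (fun _ : Fin t => (0 : Af)) z := AlgHom.congr_fun e z
      rw [← MvPolynomial.aeval_eq_eval]
      exact ((MvPolynomial.aeval_zero' z).trans (by simp)).symm.trans e'.symm
    intro m hm
    by_contra hne
    push Not at hne
    refine (MvPolynomial.mem_support_iff.1 hm) ?_
    rw [show m = 0 from Finsupp.ext fun i => hne i (by simp), ← MvPolynomial.constantCoeff_eq, h1]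
  refine ⟨N + c, ?_⟩
  rw [pow_add]
  exact killed_quotient_mono hJK (fun p hp => by rw [← algebraMap_eq_pow]; exact hc p hp) hN

/-- A power of a generator kills `Tor` of the Rees algebra. -/
theorem exists_killed_rees :
    ∃ N : ℕ, ∀ (I : Ideal A), I = Ideal.span (insert f (Set.range a)) →
      Killed (f ^ N) (ModuleCat.of A (reesAlgebra I)) t := by
  obtain ⟨N, hN⟩ := exists_killed_toRees f a
  refine ⟨N, fun I hI => ?_⟩
  have hrange : (toRees f a).range = reesAlgebra I := by
    refine le_antisymm ?_ ?_
    · rintro _ ⟨p, rfl⟩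
      have hf : f ∈ I := hI ▸ Ideal.subset_span (Set.mem_insert _ _)
      induction p using MvPolynomial.induction_on with
      | C q =>
        show toRees f a (MvPolynomial.C q) ∈ reesAlgebra I
        rw [toRees_C, Polynomial.aeval_eq_sum_range]
        refine Subalgebra.sum_mem _ fun i _ => Subalgebra.smul_mem _ (Subalgebra.pow_mem _ ?_ _) _
        exact monomial_one_mem hf
      | add p q hp hq =>
        show toRees f a (p + q) ∈ reesAlgebra I
        rw [map_add]
        exact Subalgebra.add_mem _ hp hq
      | mul_X p i hp =>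
        show toRees f a (p * MvPolynomial.X i) ∈ reesAlgebra I
        rw [map_mul, toRees_X]
        exact Subalgebra.mul_mem _ hp (monomial_one_mem
          (hI ▸ Ideal.subset_span (show a i ∈ insert f (Set.range a) from Set.mem_insert_of_mem _ ⟨i, rfl⟩)))
    · rw [← adjoin_monomial_eq_reesAlgebra, hI]
      refine Algebra.adjoin_le ?_
      rintro _ ⟨x, hx, rfl⟩
      refine Submodule.span_induction (p := fun x _ => Polynomial.monomial 1 x ∈ (toRees f a).range) ?_ ?_ ?_ ?_ hx
      · rintro y (rfl | ⟨i, rfl⟩)
        · exact ⟨MvPolynomial.C Polynomial.X, by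
            show toRees y a _ = _
            rw [toRees_C, Polynomial.aeval_X]⟩
        · exact ⟨MvPolynomial.X i, toRees_X f a i⟩
      · rw [map_zero]; exact Subalgebra.zero_mem _
      · exact fun x y _ _ hx hy => by rw [map_add]; exact Subalgebra.add_mem _ hx hy
      · exact fun r x _ hx => by rw [map_smul]; exact Subalgebra.smul_mem _ hx r
  let e := ((Ideal.quotientKerEquivRange (toRees f a)).trans (Subalgebra.equivOfEq _ _ hrange)).toLinearEquiv
  exact hN.map_iso e.toModuleIso

/-- A power of a generator kills `Tor` of all powers. -/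
theorem exists_pow_killed_pow_aux :
    ∃ N : ℕ, ∀ (I : Ideal A), I = Ideal.span (insert f (Set.range a)) → ∀ n : ℕ,
      Killed (f ^ N) (ModuleCat.of A (I ^ n : Ideal A)) t := by
  obtain ⟨N, hN⟩ := exists_killed_rees f a
  refine ⟨N, fun I hI n => ?_⟩
  have hR := hN I hI
  let ι : (I ^ n : Ideal A) →ₗ[A] reesAlgebra I :=
    { toFun := fun x => ⟨Polynomial.monomial n (x : A), fun i => by
        rw [Polynomial.coeff_monomial]; split_ifs with h
        · exact h ▸ x.2
        · exact zero_mem _⟩
      map_add' := fun x y => Subtype.ext (by simp)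
      map_smul' := fun r x => Subtype.ext (by simp [Polynomial.smul_monomial]) }
  let π : reesAlgebra I →ₗ[A] (I ^ n : Ideal A) :=
    { toFun := fun p => ⟨(p : Polynomial A).coeff n, p.2 n⟩
      map_add' := fun x y => Subtype.ext (by simp)
      map_smul' := fun r x => Subtype.ext (by simp) }
  exact hR.retract (ModuleCat.ofHom ι) (ModuleCat.ofHom π)
    (ModuleCat.hom_ext (LinearMap.ext fun x => Subtype.ext (by simp [ι, π])))

omit [IsNoetherianRing A] in
/-- The elements killing `Tor` above `d` form an ideal. -/
def killerIdeal (M : ModuleCat.{u} A) (d : ℕ) : Ideal A where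
  carrier := {r | Killed r M d}
  zero_mem' N i _ y := zero_smul A y
  add_mem' ha hb N i hi y := by rw [add_smul, ha N i hi y, hb N i hi y, add_zero]
  smul_mem' c x hx := Killed.mul hx c

/-- A power of the ideal kills `Tor` of all its powers above the number of generators. -/
theorem exists_pow_killed_powers {g : ℕ} (v : Fin (g + 1) → A) :
    ∃ c : ℕ, ∀ x ∈ Ideal.span (Set.range v) ^ c, ∀ n : ℕ,
      Killed x (ModuleCat.of A (Ideal.span (Set.range v) ^ n : Ideal A)) g := by
  classical
  choose N hN using fun j : Fin (g + 1) => exists_pow_killed_pow_aux (v j) (fun i => v (j.succAbove i))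
  let I := Ideal.span (Set.range v)
  have hrad : I ≤ (⨅ n : ℕ, killerIdeal (ModuleCat.of A (I ^ n : Ideal A)) g).radical := by
    refine Ideal.span_le.2 ?_
    rintro _ ⟨j, rfl⟩
    refine ⟨N j, Submodule.mem_iInf _ |>.2 fun n => hN j I ?_ n⟩
    refine congrArg Ideal.span ?_
    ext x; constructor
    · rintro ⟨k, rfl⟩
      rcases eq_or_ne k j with rfl | h
      · exact Set.mem_insert _ _
      · obtain ⟨i, rfl⟩ := Fin.exists_succAbove_eq h
        exact Set.mem_insert_of_mem _ ⟨i, rfl⟩
    · rintro (rfl | ⟨i, rfl⟩) <;> exact ⟨_, rfl⟩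
  obtain ⟨c, hc⟩ := Ideal.exists_pow_le_of_le_radical_of_fg hrad (IsNoetherian.noetherian I)
  exact ⟨c, fun x hx n => (Submodule.mem_iInf _).1 (hc hx) n⟩

/-- A power of the ideal kills `Tor` of the quotients by its powers above the number of generators. -/
theorem exists_pow_killed_quotient {g : ℕ} (v : Fin (g + 1) → A) :
    ∃ c : ℕ, ∀ x ∈ Ideal.span (Set.range v) ^ c, ∀ n : ℕ,
      Killed x (ModuleCat.of A (A ⧸ Ideal.span (Set.range v) ^ n)) (g + 1) := by
  obtain ⟨c, hc⟩ := exists_pow_killed_powers v
  refine ⟨c, fun x hx n => ?_⟩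
  let J : Ideal A := Ideal.span (Set.range v) ^ n
  let S : ShortComplex (ModuleCat.{u} A) := ShortComplex.mk (ModuleCat.ofHom J.subtype) (ModuleCat.ofHom J.mkQ)
    (ModuleCat.hom_ext (LinearMap.ext fun y => (Submodule.Quotient.mk_eq_zero _).2 y.2))
  have hS : S.ShortExact :=
    { exact := (ShortComplex.ShortExact.moduleCat_exact_iff_function_exact _).2 (LinearMap.exact_subtype_mkQ J)
      mono_f := (ModuleCat.mono_iff_injective _).2 Subtype.val_injective
      epi_g := (ModuleCat.epi_iff_surjective _).2 J.mkQ_surjective }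
  haveI : Module.Flat A S.X₂ := inferInstanceAs (Module.Flat A A)
  have h := killed_right (r := 1) hS (hc x hx n) (fun N i hi y => killed_of_flat S.X₂ 1 N i (by omega) y)
  rwa [one_mul] at h

end GrothLib.TorKill
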